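import Mathlib

/-!
# Real elements of order 5 (helper352, task 3473)
-/

set_option autoImplicit false

namespace Cfsg.Agent.H352.EB

open Subgroup

/-- in a non-abelian simple group with Sylow 5-subgroups of order 5 the elements of order 5 are real -/
theorem real_five {G : Type*} [Group G] [Finite G] [IsSimpleGroup G] (hna : ¬ IsMulCommutative G)
    (h25 : ¬ 5 ^ 2 ∣ Nat.card G) {y : G} (hy : orderOf y = 5) : IsConj y y⁻¹ := by
  have h5p : Nat.Prime 5 := by norm_num
  have : Fact (Nat.Prime 5) := ⟨h5p⟩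
  have hz : IsPGroup 5 (zpowers y) := IsPGroup.of_card (n := 1) (by rw [Nat.card_zpowers, hy, pow_one])
  obtain ⟨P, hP⟩ := hz.exists_le_sylow
  have hcP : Nat.card (P : Subgroup G) = 5 := by
    obtain ⟨k, hk⟩ := IsPGroup.iff_card.1 P.2
    have h1 : 5 ^ k ∣ Nat.card G := hk ▸ (P : Subgroup G).card_subgroup_dvd_card
    have h2 : k < 2 := by
      by_contra h
      exact h25 ((pow_dvd_pow 5 (by omega)).trans h1)
    have h3 := card_dvd_of_le hP
    rw [Nat.card_zpowers, hy] at h3
    interval_cases k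
    · rw [hk] at h3
      omega
    · rw [hk]; norm_num
  have hPz : (P : Subgroup G) = zpowers y :=
    (Subgroup.eq_of_le_of_card_ge hP (by rw [hcP, Nat.card_zpowers, hy])).symm
  -- the normalizer is not the centralizer
  have hnot : ¬ normalizer ((P : Subgroup G) : Set G) ≤ centralizer ((P : Subgroup G) : Set G) := by
    intro hle
    have hc := MonoidHom.ker_transferSylow_isComplement' P hle
    have hidx : (MonoidHom.transferSylow P hle).ker.index = 5 := by
      rw [hc.symm.index_eq_card]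
      exact hcP
    have hn : (MonoidHom.transferSylow P hle).ker.Normal := inferInstance
    rcases hn.eq_bot_or_eq_top with h | h
    · rw [h, index_bot] at hidx
      apply hna
      have : IsCyclic G := isCyclic_of_prime_card hidx
      exact ⟨⟨fun a b => by
        let i : CommGroup G := IsCyclic.commGroup
        exact mul_comm a b⟩⟩
    · rw [h, index_top] at hidx
      omega
  obtain ⟨n, hn, hnc⟩ := SetLike.not_le_iff_exists.1 hnot
  have hym : y ∈ (P : Subgroup G) := hPz ▸ mem_zpowers y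
  have h1 : n * y * n⁻¹ ∈ zpowers y := hPz ▸ (mem_normalizer_iff.1 hn y).1 hym
  have hf : IsOfFinOrder y := isOfFinOrder_of_finite y
  have hne : n * y * n⁻¹ ≠ y := by
    intro h
    apply hnc
    rw [mem_centralizer_iff]
    intro g hg
    have hg' : g ∈ zpowers y := hPz ▸ hg
    obtain ⟨k, rfl⟩ := mem_zpowers_iff.1 hg'
    have h2 : Commute n y := mul_inv_eq_iff_eq_mul.1 h
    exact (h2.zpow_right k).symm
  obtain ⟨k, hk, hk2⟩ : ∃ k < 5, y ^ k = n * y * n⁻¹ := by
    classical
    obtain ⟨k, hk, hk2⟩ := Finset.mem_image.1 (hf.mem_zpowers_iff_mem_range_orderOf.1 h1)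
    rw [hy, Finset.mem_range] at hk
    exact ⟨k, hk, hk2⟩
  have hy5 : y ^ 5 = 1 := hy ▸ pow_orderOf_eq_one y
  have hy4 : y ^ 4 = y⁻¹ := by
    rw [eq_inv_iff_mul_eq_one, ← pow_succ, hy5]
  have hsq : ∀ m : ℕ, y ^ m = n * y * n⁻¹ → y ^ (m * m) = n * n * y * (n * n)⁻¹ := by
    intro m hm
    rw [pow_mul, hm, conj_pow, hm]
    group
  interval_cases k
  · rw [pow_zero] at hk2
    exfalso
    have h3 : y = n⁻¹ * (n * y * n⁻¹) * n := by group
    rw [← hk2] at h3
    have h4 : y = 1 := by rw [h3]; group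
    rw [h4, orderOf_one] at hy
    omega
  · rw [pow_one] at hk2
    exact absurd hk2.symm hne
  · have h3 := hsq 2 hk2
    rw [show 2 * 2 = 4 from rfl, hy4] at h3
    exact isConj_iff.2 ⟨n * n, h3.symm⟩
  · have h3 := hsq 3 hk2
    rw [show 3 * 3 = 5 + 4 from rfl, pow_add, hy5, one_mul, hy4] at h3
    exact isConj_iff.2 ⟨n * n, h3.symm⟩
  · rw [hy4] at hk2
    exact isConj_iff.2 ⟨n, hk2.symm⟩

end Cfsg.Agent.H352.EB
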