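import Cfsg.Agent.LieRecognition.HermHeis

/-!
# The number of conjugacy classes of a Sylow 2-subgroup of `SU_3(q)`, `q` even, is `q ^ 2 + q - 1` (helper352)
-/

set_option autoImplicit false
set_option linter.unusedSectionVars false
set_option linter.style.haveILetI false

namespace Cfsg.Agent.H352.EB

open Cfsg.Agent.LieRecognition.HermHeis

variable {F : Type*} [Field F] [CharP F 2] {σ : F →+* F} [hσ : Fact (∀ x, σ (σ x) = x)]

theorem exists_equiv_a (h : ∀ c : F, σ c = c → ∃ b : F, b + σ b = c) :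
    ∃ e : Heis σ ≃ F × {x : F // σ x = x}, ∀ x, (e x).1 = x.a := by
  have hfix : ∀ a : F, σ (a * σ a) = a * σ a := fun a => by rw [map_mul, sig, mul_comm]
  choose b hb using fun a : F => h (a * σ a) (hfix a)
  exact ⟨{
    toFun := fun x => (x.a, ⟨x.b + b x.a, by
      have h1 := x.h
      have h2 := hb x.a
      rw [map_add, ← CharTwo.add_eq_zero]
      linear_combination h1 + h2 + CharTwo.add_self_eq_zero (x.a * σ x.a)⟩)
    invFun := fun p => ⟨p.1, p.2.1 + b p.1, by
      have h1 := p.2.2
      have h2 := hb p.1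
      rw [map_add, h1]
      linear_combination h2 + CharTwo.add_self_eq_zero (p.2.1)⟩
    left_inv := fun x => by
      ext
      · rfl
      · simp [add_assoc, CharTwo.add_self_eq_zero]
    right_inv := fun p => by
      ext
      · rfl
      · simp [add_assoc, CharTwo.add_self_eq_zero] }, fun x => rfl⟩

omit [CharP F 2] in
/-- the number of pairs with `a σ(b) = b σ(a)` -/
theorem card_pairs [Finite F] {q : ℕ} (hfx : Nat.card {x : F // σ x = x} = q)
    (hF : Nat.card F = q ^ 2) :
    Nat.card {r : F × F // r.1 * σ r.2 = r.2 * σ r.1} = q ^ 2 + (q ^ 2 - 1) * q := by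
  classical
  haveI := Fintype.ofFinite F
  have h0 : Nat.card {r : F × F // r.1 * σ r.2 = r.2 * σ r.1} =
      ∑ a : F, Nat.card {b : F // a * σ b = b * σ a} := by
    rw [← Nat.card_sigma]
    exact Nat.card_congr
      { toFun := fun r => ⟨r.1.1, r.1.2, r.2⟩
        invFun := fun r => ⟨(r.1, r.2.1), r.2.2⟩
        left_inv := fun r => rfl
        right_inv := fun r => rfl }
  rw [h0, ← Finset.add_sum_erase Finset.univ _ (Finset.mem_univ (0 : F))]
  congr 1
  · rw [← hF]
    refine Nat.card_congr (Equiv.subtypeUnivEquiv fun b => ?_)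
    rw [zero_mul, map_zero, mul_zero]
  · have h1 : ∀ a ∈ Finset.univ.erase (0 : F), Nat.card {b : F // a * σ b = b * σ a} = q := by
      intro a ha
      have ha0 : a ≠ 0 := Finset.ne_of_mem_erase ha
      have ha1 : σ a ≠ 0 := fun h => ha0 ((map_eq_zero σ).1 h)
      rw [← hfx]
      exact Nat.card_congr
        { toFun := fun b => ⟨b.1 / a, by
            rw [map_div₀, div_eq_div_iff ha1 ha0, mul_comm]
            exact b.2⟩
          invFun := fun t => ⟨a * t.1, by
            rw [map_mul, t.2]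
            ring⟩
          left_inv := fun b => Subtype.ext (mul_div_cancel₀ b.1 ha0)
          right_inv := fun t => Subtype.ext (mul_div_cancel_left₀ t.1 ha0) }
    rw [Finset.sum_congr rfl h1, Finset.sum_const, Finset.card_erase_of_mem (Finset.mem_univ _),
      Finset.card_univ, ← Nat.card_eq_fintype_card, hF, smul_eq_mul]

theorem card_conjClasses_heis [Finite F] {q : ℕ} (hq : 1 < q) (hs : ∀ x, σ x = x ^ q)
    (hF : Nat.card F = q ^ 2) : Nat.card (ConjClasses (Heis σ)) + 1 = q ^ 2 + q := by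
  obtain ⟨hfx, hex⟩ := card_fixed (σ := σ) hq hs hF
  obtain ⟨e, he⟩ := exists_equiv_a (σ := σ) hex
  have h1 : Nat.card {p : Heis σ × Heis σ // Commute p.1 p.2} =
      Nat.card ({r : F × F // r.1 * σ r.2 = r.2 * σ r.1} × ({x : F // σ x = x} × {x : F // σ x = x})) := by
    refine Nat.card_congr
      { toFun := fun p => (⟨((e p.1.1).1, (e p.1.2).1), by
          rw [he, he]
          exact (commute_iff _ _).1 p.2⟩, ((e p.1.1).2, (e p.1.2).2))
        invFun := fun r => ⟨(e.symm (r.1.1.1, r.2.1), e.symm (r.1.1.2, r.2.2)), by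
          refine (commute_iff _ _).2 ?_
          rw [← he, ← he, e.apply_symm_apply, e.apply_symm_apply]
          exact r.1.2⟩
        left_inv := fun p => by
          apply Subtype.ext
          simp
        right_inv := fun r => by
          simp }
  have h2 := card_comm_eq_card_conjClasses_mul_card (Heis σ)
  rw [h1, Nat.card_prod, Nat.card_prod, hfx, card_pairs hfx hF, card_heis (σ := σ) hq hs hF] at h2
  have hq2 : 1 ≤ q ^ 2 := Nat.one_le_pow _ _ (by omega)
  have h3 : (q ^ 2 + (q ^ 2 - 1) * q) * (q * q) + q ^ 3 = (q ^ 2 + q) * q ^ 3 := by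
    obtain ⟨m, hm⟩ : ∃ m, q ^ 2 = m + 1 := ⟨q ^ 2 - 1, by omega⟩
    have h4 : q ^ 2 - 1 = m := by omega
    rw [h4]
    have h5 : q * q = m + 1 := by rw [← sq, hm]
    have h6 : q ^ 3 = (m + 1) * q := by rw [pow_succ, hm]
    rw [h6, hm, h5]
    nlinarith [h5]
  have h4 : (Nat.card (ConjClasses (Heis σ)) + 1) * q ^ 3 = (q ^ 2 + q) * q ^ 3 := by
    rw [add_mul, ← h2, one_mul, h3]
  exact Nat.eq_of_mul_eq_mul_right (by positivity) h4

theorem odd_card_conjClasses_heis [Finite F] {n : ℕ} (hn : 1 ≤ n) (hs : ∀ x, σ x = x ^ (2 ^ n))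
    (hF : Nat.card F = (2 ^ n) ^ 2) : Odd (Nat.card (ConjClasses (Heis σ))) := by
  have h1 := card_conjClasses_heis (σ := σ) (Nat.one_lt_two_pow (by omega)) hs hF
  have h2 : Even ((2 ^ n) ^ 2 + 2 ^ n) := by
    have h3 : Even (2 ^ n) := even_two.pow_of_ne_zero (by omega)
    exact (h3.pow_of_ne_zero (by norm_num)).add h3
  rw [← h1] at h2
  rwa [Nat.even_add_one, Nat.not_even_iff_odd] at h2

end Cfsg.Agent.H352.EB
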