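import Cfsg.Agent.H352.EB.Five
import Cfsg.Agent.H684.EB.Base
import Cfsg.Agent.OddHalf.Small.J3
import Cfsg.Agent.SevenCases.SporJ4
import Cfsg.Agent.J4Type.HexStab
import Cfsg.Agent.J4Type.HexMax
import Cfsg.Agent.NotCT.Orders

/-!
# S4522: the rows `J3`, `J4` (helper352, task 3473)
-/

set_option autoImplicit false

namespace Cfsg.Agent.H352.EB

open Cfsg Subgroup Cfsg.Agent.H684.EB
open scoped Pointwise

universe u

/-- [T03] `oneBlock_of_constrained` (p = 2) -/
def OB : Prop := ∀ {S : Type u} [Group S] [Fintype S] {M : Ideal AlgInt}, IsPModular 2 M →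
  ∀ (E : Subgroup S) [E.Normal], IsPGroup 2 E → centralizer (E : Set S) ≤ E →
  ∀ χ : IrrCharacter S, χ ∈ principalBlock M S

/-- [T04] `evenB_of_p1` -/
def P1 : Prop := ∀ {S : Type u} [Group S] [Fintype S] [IsSimpleGroup S] {r : ℕ}, r.Prime → r ≠ 2 →
  ¬ r ^ 2 ∣ Nat.card S → ∀ y : S, orderOf y = r → IsConj y y⁻¹ → ∀ x : S,
  (∃ j : ℕ, orderOf x = 2 ^ j) → Commute x y →
  (∀ M : Ideal AlgInt, IsPModular 2 M →
    ∀ χ : IrrCharacter (Subgroup.centralizer ({x} : Set S)), χ ∈ principalBlock M (Subgroup.centralizer ({x} : Set S))) →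
  EvenB S

theorem charTwo_centralizer {S : Type*} [Group S] (hc : IsCharacteristicTwoType S) {z : S} (hz : orderOf z = 2) :
    IsOfCharacteristicTwo ↥(centralizer ({z} : Set S)) := by
  have hz1 : z ≠ 1 := by
    rintro rfl
    rw [orderOf_one] at hz
    omega
  have h1 : normalizer ((zpowers z : Subgroup S) : Set S) = centralizer ({z} : Set S) := by
    have hmem : ∀ g : S, g * z * g⁻¹ ∈ zpowers z → g * z * g⁻¹ = z := by
      intro g hg
      obtain ⟨k, hk⟩ := mem_zpowers_iff.1 hg
      rcases Int.even_or_odd k with ⟨m, hm⟩ | ⟨m, hm⟩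
      · rw [hm, ← two_mul, zpow_mul, zpow_ofNat, ← hz, pow_orderOf_eq_one, one_zpow] at hk
        exact absurd (conj_eq_one_iff.1 hk.symm) hz1
      · rw [hm, zpow_add, zpow_mul, zpow_ofNat, ← hz, pow_orderOf_eq_one, one_zpow, one_mul, zpow_one] at hk
        exact hk.symm
    ext g
    rw [mem_centralizer_singleton_iff]
    constructor
    · intro hg
      have h2 := hmem g ((mem_normalizer_iff.1 hg z).1 (mem_zpowers z))
      exact mul_inv_eq_iff_eq_mul.1 h2
    · intro hg
      have hg' : g ∈ centralizer ((zpowers z : Subgroup S) : Set S) := by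
        rw [mem_centralizer_iff]
        intro a ha
        obtain ⟨k, rfl⟩ := mem_zpowers_iff.1 ha
        have h2 : Commute g z := hg
        exact (h2.zpow_right k).symm
      exact centralizer_le_normalizer _ hg'
  have h2 := hc.2 (zpowers z) (IsPGroup.of_card (n := 1) (by rw [Nat.card_zpowers, hz, pow_one]))
    (by rw [Ne, zpowers_eq_bot]; exact hz1)
  rwa [h1] at h2

/-- groups of characteristic 2 type with an element of order 10 and Sylow 5-subgroups of order 5 -/
theorem evenB_of_charTwo (ob : OB.{u}) (p1 : P1.{u}) {S : Type u} [Group S] [Finite S] [IsSimpleGroup S]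
    (hna : ¬ IsMulCommutative S) (hc : IsCharacteristicTwoType S) (h25 : ¬ 5 ^ 2 ∣ Nat.card S) {z : S}
    (hz : orderOf z = 2) (h5 : 5 ∣ Nat.card (centralizer ({z} : Set S))) : EvenB S := by
  have := Fintype.ofFinite S
  have : Fact (Nat.Prime 5) := ⟨by norm_num⟩
  obtain ⟨⟨y, hym⟩, hy⟩ := exists_prime_orderOf_dvd_card' 5 h5
  rw [Subgroup.orderOf_mk] at hy
  refine p1 (r := 5) (by norm_num) (by norm_num) h25 y hy (real_five hna h25 hy) z ⟨1, by rw [hz, pow_one]⟩
    (mem_centralizer_singleton_iff.1 hym).symm ?_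
  intro M hM χ
  have := Fintype.ofFinite ↥(centralizer ({z} : Set S))
  have h2 : IsPGroup 2 (pCore 2 ↥(centralizer ({z} : Set S))) := Lib.Cores.pCore_isPGroup 2
  exact ob hM (pCore 2 ↥(centralizer ({z} : Set S))) h2 (charTwo_centralizer hc hz) χ

theorem not_prime_card_of {S : Type*} [Group S] [Finite S] [IsSimpleGroup S] (hm : IsMulCommutative S)
    (h : ¬ (Nat.card S).Prime) : False := by
  let : CommGroup S := { ‹Group S› with mul_comm := fun a b => hm.is_comm.comm a b }
  exact h (IsSimpleGroup.prime_card (α := S))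

/-- **`J3`** -/
theorem evenB_j3 (ob : OB.{u}) (p1 : P1.{u}) {S : Type u} [Group S] (h : Cfsg.Spor.IsoJ3 S) : EvenB S := by
  obtain ⟨hs, z, Q, v, ρ, n, w, F⟩ := KFacts.J3.exists_facts h
  have : Finite S := Nat.finite_of_card_ne_zero (by rw [F.card_K]; norm_num)
  have hz2 : z * z = 1 := congrArg Subtype.val F.model.z_sq
  have hz1 : z ≠ 1 := fun e => F.model.z_ne (Subtype.ext e)
  refine evenB_of_charTwo ob p1 ?_ (Cfsg.Agent.OddHalf.Small.J3.j3 S h) (by rw [F.card_K]; norm_num)
    (orderOf_eq_prime (by rw [pow_two, hz2]) hz1) (by rw [F.card_C]; norm_num)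
  intro hm
  exact not_prime_card_of hm (by rw [F.card_K]; norm_num)

/-- **`J4`** -/
theorem evenB_j4 (ob : OB.{u}) (p1 : P1.{u}) {S : Type u} [Group S] (h : Cfsg.Spor.IsoJ4 S) : EvenB S := by
  obtain ⟨h1, h2, ⟨F⟩⟩ := KFacts.J4.Base.exists_full h
  have hcard : Nat.card S = 86775571046077562880 := Cfsg.Agent.NotCT.Orders.j4 h
  refine evenB_of_charTwo ob p1 ?_ (Cfsg.Agent.SevenCases.SporJ4.charTwo h) (by rw [hcard]; norm_num)
    F.C.z_order ?_
  · intro hm
    exact not_prime_card_of hm (by rw [hcard]; norm_num)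
  · have h3 : 5 ∣ Nat.card ↥F.C.P.range := by
      rw [F.C.P_range]
      have h4 := J4Type.HexStab.card_stab J4Type.HexMax.hex0_isHex
      have h5 := Subgroup.card_dvd_of_le
        (inf_le_left : J4Type.M22d ⊓ MulAction.stabilizer (Equiv.Perm GolayPt) J4Type.hex0 ≤ J4Type.M22d)
      rw [h4] at h5
      exact dvd_trans (by norm_num) h5
    exact h3.trans (Subgroup.card_range_dvd F.C.P)

end Cfsg.Agent.H352.EB
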