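import Cfsg.Agent.H352.EB.TiSum
import Cfsg.Agent.H674.Codegree
import Cfsg.Agent.H597.Degrees
import Cfsg.Prelude.Def_KGroupFacts

/-!
# Criterion (F) for groups with independent Sylow 2-subgroups and `|Out S|` odd (helper352)

The sum of the characters of an `Aut(S)_U`-orbit of irreducible characters of even degree of the Sylow 2-subgroup `U`.
-/

set_option autoImplicit false
set_option linter.unusedSectionVars false
set_option linter.style.haveILetI false

namespace Cfsg.Agent.H352.EB

open Cfsg Cfsg.Agent.Characters Cfsg.Agent.H694 Cfsg.Agent.H684.EB Cfsg.Agent.H610.EB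
open Cfsg.Agent.H610 Cfsg.Agent.H611.EB Cfsg.Agent.H694.EB
open Cfsg.Agent.Characters.Core

universe u

section

variable {S : Type u} [Group S]

/-- the automorphisms of `S` which preserve `U` -/
def autStab (U : Subgroup S) : Subgroup (MulAut S) where
  carrier := {α | ∀ s, s ∈ U ↔ α s ∈ U}
  mul_mem' := by
    intro α β hα hβ s
    rw [hβ s, hα (β s)]
    rfl
  one_mem' := fun s => Iff.rfl
  inv_mem' := by
    intro α hα s
    rw [hα (α⁻¹ s), MulAut.apply_inv_self]

theorem mem_autStab {U : Subgroup S} {α : MulAut S} : α ∈ autStab U ↔ ∀ s, s ∈ U ↔ α s ∈ U := Iff.rfl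

instance actIrr (U : Subgroup S) : MulAction (autStab U) (IrrCharacter U) where
  smul α χ := pull (restr U (α⁻¹ : autStab U).1 (α⁻¹ : autStab U).2) χ
  one_smul χ := by
    apply Subtype.ext
    funext x
    show (χ : U → ℂ) _ = (χ : U → ℂ) x
    congr 1
  mul_smul α β χ := by
    apply Subtype.ext
    funext x
    refine congrArg (χ : U → ℂ) (Subtype.ext ?_)
    show ((α * β)⁻¹ : autStab U).1 (x : S) = (β⁻¹ : autStab U).1 ((α⁻¹ : autStab U).1 (x : S))
    rw [mul_inv_rev]
    rfl

theorem smul_irr (U : Subgroup S) (α : autStab U) (χ : IrrCharacter U) :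
    α⁻¹ • χ = pull (restr U α.1 α.2) χ := by
  apply Subtype.ext
  funext x
  refine congrArg (χ : U → ℂ) (Subtype.ext ?_)
  show ((α⁻¹)⁻¹ : autStab U).1 (x : S) = α.1 (x : S)
  rw [inv_inv]

/-- the inner automorphisms by elements of `U` -/
def innP (U : Subgroup S) : Subgroup (MulAut S) := U.map (MulAut.conj : S →* MulAut S)

theorem innP_le (U : Subgroup S) : innP U ≤ autStab U := by
  rintro _ ⟨g, hg, rfl⟩ s
  have hg' : g ∈ U := hg
  show s ∈ U ↔ MulAut.conj g s ∈ U
  rw [MulAut.conj_apply]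
  constructor
  · exact fun h => U.mul_mem (U.mul_mem hg' h) (U.inv_mem hg')
  · intro h
    have h2 := U.mul_mem (U.mul_mem (U.inv_mem hg') h) hg'
    have h3 : g⁻¹ * (g * s * g⁻¹) * g = s := by group
    rwa [h3] at h2

theorem innP_stab (U : Subgroup S) (μ : IrrCharacter U) :
    (innP U).subgroupOf (autStab U) ≤ MulAction.stabilizer (autStab U) μ := by
  intro α hα
  obtain ⟨g, hg, hgα⟩ := Subgroup.mem_subgroupOf.1 hα
  have hg' : g ∈ U := hg
  have hcf := isIrr_isClassFunction μ.2
  have h1 : α⁻¹ • μ = μ := by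
    rw [smul_irr]
    apply Subtype.ext
    funext x
    rw [pull_apply, ← hcf x ⟨g, hg'⟩]
    refine congrArg (μ : U → ℂ) (Subtype.ext ?_)
    show α.1 (x : S) = g * x * g⁻¹
    rw [← hgα, MulAut.conj_apply]
  rw [MulAction.mem_stabilizer_iff]
  rw [← h1, smul_inv_smul, h1]

theorem conj_injective (hZ : Subgroup.center S = ⊥) : Function.Injective (MulAut.conj : S →* MulAut S) := by
  rw [injective_iff_map_eq_one]
  intro g hg
  rw [← Subgroup.mem_bot, ← hZ, Subgroup.mem_center_iff]
  intro h
  have h1 : MulAut.conj g h = h := by rw [hg]; rfl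
  rw [MulAut.conj_apply, mul_inv_eq_iff_eq_mul] at h1
  exact h1.symm

theorem card_innP [Finite S] (hZ : Subgroup.center S = ⊥) (U : Subgroup S) : Nat.card (innP U) = Nat.card U := by
  exact (Nat.card_congr (Subgroup.equivMapOfInjective U _ (conj_injective hZ)).toEquiv).symm

theorem odd_orbit [Finite S] (hZ : Subgroup.center S = ⊥) (hout : Odd (Nat.card (Out S))) (P : Sylow 2 S)
    (μ : IrrCharacter ↥(P : Subgroup S)) : Odd (MulAction.orbit (autStab (P : Subgroup S)) μ).ncard := by
  haveI : Fact (Nat.Prime 2) := ⟨Nat.prime_two⟩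
  have hI : Odd (innP (P : Subgroup S)).index := by
    have h1 : (innP (P : Subgroup S)).index = (P : Subgroup S).index * Nat.card (Out S) := by
      have h2 := Subgroup.card_mul_index (innP (P : Subgroup S))
      rw [card_innP hZ] at h2
      have h3 : Nat.card (MulAut S) = Nat.card (Inn S) * Nat.card (Out S) :=
        (Subgroup.card_mul_index (Inn S)).symm
      have h4 : Nat.card (Inn S) = Nat.card S := by
        exact (Nat.card_congr (MonoidHom.ofInjective (conj_injective hZ)).toEquiv).symm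
      rw [h3, h4, ← Subgroup.card_mul_index (P : Subgroup S), mul_assoc] at h2
      exact Nat.eq_of_mul_eq_mul_left Nat.card_pos h2
    rw [h1]
    refine Odd.mul ?_ hout
    rw [← Nat.not_even_iff_odd, even_iff_two_dvd]
    exact P.not_dvd_index
  rw [← MulAction.index_stabilizer]
  have h1 := Subgroup.index_dvd_of_le (innP_stab (P : Subgroup S) μ)
  have h2 : ((innP (P : Subgroup S)).subgroupOf (autStab (P : Subgroup S))).index ∣
      (innP (P : Subgroup S)).index :=
    ⟨_, (Subgroup.relIndex_mul_index (innP_le (P : Subgroup S))).symm⟩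
  exact Odd.of_dvd_nat hI (h1.trans h2)

/-- `S` with independent nonabelian Sylow 2-subgroups and `|Out S|` odd -/
theorem evenJ_of_out_odd [Finite S] (hZ : Subgroup.center S = ⊥) (hdz : DZ S) (hTI : Cfsg.Agent.H210.Loc.TI 2 S)
    (hout : Odd (Nat.card (Out S))) (P : Sylow 2 S) (hna : ∃ x y : ↥(P : Subgroup S), x * y ≠ y * x) : EvenJ S := by
  classical
  haveI : Fact (Nat.Prime 2) := ⟨Nat.prime_two⟩
  letI := Fintype.ofFinite S
  obtain ⟨μ, hμ⟩ : ∃ μ : IrrCharacter ↥(P : Subgroup S), charDegree (μ : ↥(P : Subgroup S) → ℂ) ≠ 1 := by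
    by_contra hcon
    push Not at hcon
    obtain ⟨x, y, hxy⟩ := hna
    exact hxy (Cfsg.Agent.H597.Degrees.comm_of_forall_one (fun χ hχ => hcon ⟨χ, hχ⟩) x y)
  have hμe : Even (charDegree (μ : ↥(P : Subgroup S) → ℂ)) := by
    obtain ⟨n, hn⟩ := IsPGroup.iff_card.1 P.2
    have h1 := Cfsg.Agent.H674.Codegree.charDegree_dvd_card μ.2
    rw [hn] at h1
    obtain ⟨i, -, hi⟩ := (Nat.dvd_prime_pow Nat.prime_two).1 h1
    rw [hi]
    refine even_two.pow_of_ne_zero ?_
    rintro rfl
    exact hμ (by rw [hi, pow_zero])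
  haveI : Finite (IrrCharacter ↥(P : Subgroup S)) := finite_irr
  haveI : Finite ↑(MulAction.orbit (autStab (P : Subgroup S)) μ) := Subtype.finite
  letI : Fintype ↑(MulAction.orbit (autStab (P : Subgroup S)) μ) := Fintype.ofFinite _
  refine evenJ_of_finset hdz hTI P (MulAction.orbit (autStab (P : Subgroup S)) μ).toFinset ?_ ?_ ?_
  · intro α hα χ hχ
    rw [Set.mem_toFinset] at hχ ⊢
    have h1 : pull (restr (P : Subgroup S) α hα) χ = (⟨α, hα⟩ : autStab (P : Subgroup S))⁻¹ • χ := by
      rw [smul_irr]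
    rw [h1]
    exact MulAction.mem_orbit_of_mem_orbit _ hχ
  · rw [← Set.ncard_eq_toFinset_card']
    exact odd_orbit hZ hout P μ
  · refine Finset.even_sum _ fun χ hχ => ?_
    rw [Set.mem_toFinset] at hχ
    obtain ⟨α, rfl⟩ := hχ
    have h1 : charDegree ((α • μ : IrrCharacter ↥(P : Subgroup S)) : ↥(P : Subgroup S) → ℂ) =
        charDegree (μ : ↥(P : Subgroup S) → ℂ) := charDegree_pull _ μ
    show Even (charDegree ((α • μ : IrrCharacter ↥(P : Subgroup S)) : ↥(P : Subgroup S) → ℂ))
    rw [h1]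
    exact hμe

end

end Cfsg.Agent.H352.EB
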