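import Cfsg.Agent.H352.EB.TiSum
import Cfsg.Agent.H352.EB.HeisCount
import Cfsg.Agent.LieRecognition.PSUThreeSylow
import Cfsg.Agent.H274.EB.U1
import Cfsg.Agent.KFacts.RgdFiltClass
import Cfsg.Agent.Characters.Counting

/-!
# Team EB: the row `PSU_3(q)`, `q` even (helper352)
-/

set_option autoImplicit false
set_option linter.unusedSectionVars false
set_option linter.style.haveILetI false

namespace Cfsg.Agent.H352.EB

open Cfsg Cfsg.Agent.Characters Cfsg.Agent.H694 Cfsg.Agent.H684.EB Cfsg.Agent.H610.EB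
open Cfsg.Agent.H610 Cfsg.Agent.H611.EB Cfsg.Agent.H694.EB
open Cfsg.Agent.Characters.Core
open Cfsg.Agent.Blocks.Basic (irr_one_eq_charDegree)

universe u

theorem even_sum_degrees {G : Type*} [Group G] [Finite G] [Fintype (IrrCharacter G)] (h : Even (Nat.card G)) :
    Even (∑ χ : IrrCharacter G, charDegree (χ : G → ℂ)) := by
  classical
  have h1 := Cfsg.Agent.Characters.Counting.sum_irr_one_mul (1 : G)
  rw [if_pos rfl] at h1
  have h2 : ∑ χ : IrrCharacter G, charDegree (χ : G → ℂ) * charDegree (χ : G → ℂ) = Nat.card G := by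
    have h3 : ((∑ χ : IrrCharacter G, charDegree (χ : G → ℂ) * charDegree (χ : G → ℂ) : ℕ) : ℂ) =
        (Nat.card G : ℂ) := by
      rw [← h1, Nat.cast_sum]
      refine Finset.sum_congr rfl fun χ _ => ?_
      rw [irr_one_eq_charDegree χ.2, Nat.cast_mul]
    exact_mod_cast h3
  have h4 : ∑ χ : IrrCharacter G, charDegree (χ : G → ℂ) + ∑ χ : IrrCharacter G, charDegree (χ : G → ℂ) * charDegree (χ : G → ℂ) =
      ∑ χ : IrrCharacter G, charDegree (χ : G → ℂ) * (charDegree (χ : G → ℂ) + 1) := by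
    rw [← Finset.sum_add_distrib]
    exact Finset.sum_congr rfl fun χ _ => by ring
  have h5 : Even (∑ χ : IrrCharacter G, charDegree (χ : G → ℂ) * (charDegree (χ : G → ℂ) + 1)) :=
    Finset.even_sum _ fun χ _ => Nat.even_mul_succ_self _
  rw [← h4, h2, Nat.even_add] at h5
  exact h5.2 h

/-- isomorphic groups have the same number of irreducible characters -/
theorem card_irr_congr {G H : Type*} [Group G] [Group H] (e : G ≃* H) :
    Nat.card (IrrCharacter G) = Nat.card (IrrCharacter H) := by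
  refine Nat.card_congr ⟨pull e.symm, pull e, fun χ => ?_, fun χ => ?_⟩
  · apply Subtype.ext
    funext x
    rw [pull_apply, pull_apply, e.symm_apply_apply]
  · apply Subtype.ext
    funext x
    rw [pull_apply, pull_apply, e.apply_symm_apply]

/-- **`PSU_3(q)`, `q` even.** -/
theorem evenJ_psu3_two {S : Type u} [Group S] [Finite S] [IsSimpleGroup S] {F : Type} [Field F] [Fintype F]
    [CharP F 2] {q : ℕ} (hF : Fintype.card F = q ^ 2) (e : S ≃* PSU 3 F q) : EvenJ S := by
  classical
  haveI : Fact (Nat.Prime 2) := ⟨Nat.prime_two⟩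
  letI := Fintype.ofFinite S
  obtain ⟨m, -, hm⟩ := FiniteField.card F 2
  obtain ⟨n, -, rfl⟩ : ∃ n ≤ (m : ℕ), q = 2 ^ n := by
    refine (Nat.dvd_prime_pow Nat.prime_two).1 ?_
    rw [← hm, hF]
    exact dvd_pow_self q two_ne_zero
  have hn : 1 ≤ n := by
    rcases Nat.eq_zero_or_pos n with h | h
    · exfalso
      rw [h, pow_zero, one_pow] at hF
      have := Fintype.one_lt_card (α := F)
      omega
    · exact h
  have hF' : Nat.card F = (2 ^ n) ^ 2 := by rw [Nat.card_eq_fintype_card, hF]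
  obtain ⟨_, σ, hσ, hs, -, h⟩ := Cfsg.Agent.LieRecognition.PSUThreeSylow.exists_heis_equiv F hn hF'
  haveI : Finite (PSU 3 F (2 ^ n)) := Finite.of_equiv S e.toEquiv
  have hdz : DZ S := H274.EB.dz_of_hasFilt ((KFacts.RgdFiltClass.hasFilt_PSU hF (by norm_num)).of_equiv e.symm)
  have hTI : Cfsg.Agent.H210.Loc.TI 2 S := (Cfsg.Agent.H210.Loc.ti_psu3 hF).of_equiv e.symm
  obtain ⟨Q⟩ : Nonempty (Sylow 2 (PSU 3 F (2 ^ n))) := inferInstance
  set P : Sylow 2 S := Q.mapSurjective (f := e.symm.toMonoidHom) e.symm.surjective with hP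
  have hPQ : (P : Subgroup S) = (Q : Subgroup (PSU 3 F (2 ^ n))).map e.symm.toMonoidHom := rfl
  obtain ⟨f⟩ := h Q
  have f2 : (Q : Subgroup (PSU 3 F (2 ^ n))) ≃* (P : Subgroup S) :=
    (Subgroup.equivMapOfInjective _ e.symm.toMonoidHom e.symm.injective)
  have g : Cfsg.Agent.LieRecognition.HermHeis.Heis σ ≃* (P : Subgroup S) := f.trans f2
  haveI : Finite (IrrCharacter ↥(P : Subgroup S)) := finite_irr
  letI : Fintype (IrrCharacter ↥(P : Subgroup S)) := Fintype.ofFinite _
  refine evenJ_of_finset hdz hTI P Finset.univ (fun _ _ _ _ => Finset.mem_univ _) ?_ ?_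
  · rw [Finset.card_univ, ← Nat.card_eq_fintype_card, ← card_irr_congr g, card_irr]
    exact odd_card_conjClasses_heis (σ := σ) hn hs hF'
  · apply even_sum_degrees
    rw [← Nat.card_congr g.toEquiv, Cfsg.Agent.LieRecognition.HermHeis.card_heis (σ := σ)
      (Nat.one_lt_two_pow (by omega)) hs hF']
    exact (even_two.pow_of_ne_zero (by omega)).pow_of_ne_zero (by norm_num)

end Cfsg.Agent.H352.EB
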